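import Mathlib
import Cfsg.Agent.Lib.Helper81.Mi.Defs

/-!
# Ah hive (owner helper81): S2272, Arad–Herzog for `PSL_d(q)`, `d ≥ 3`

For non-scalar `A, B ∈ SL_d(F)` the traces `tr (g A g⁻¹ · h B h⁻¹)` take EVERY value of `F`; a single class in
`PSL_d` would force them into `ζ · tr (A B)`, `ζ ≠ 0`.  Definitions: the linear functional `c1`.
-/

set_option autoImplicit false

namespace Cfsg.Agent.Lib.Helper81.Ah

open Matrix Cfsg.Agent.Lib.Helper81.Mi

variable {F : Type*} [Field F] {n : ℕ}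

/-- the linear functional `X ↦ w ⬝ᵥ ((X * Y - Y * X) *ᵥ v)`. -/
def c1 (Y : Matrix (Fin n) (Fin n) F) (v w : Fin n → F) : Matrix (Fin n) (Fin n) F →ₗ[F] F where
  toFun X := w ⬝ᵥ ((X * Y - Y * X) *ᵥ v)
  map_add' X X' := by
    rw [show (X + X') * Y - Y * (X + X') = (X * Y - Y * X) + (X' * Y - Y * X') by
      rw [add_mul, mul_add]; abel, Matrix.add_mulVec, dotProduct_add]
  map_smul' c X := by
    rw [show (c • X) * Y - Y * (c • X) = c • (X * Y - Y * X) by
      rw [Matrix.smul_mul, Matrix.mul_smul, smul_sub], Matrix.smul_mulVec, dotProduct_smul]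
    rfl

theorem c1_apply (Y : Matrix (Fin n) (Fin n) F) (v w : Fin n → F) (X : Matrix (Fin n) (Fin n) F) :
    c1 Y v w X = w ⬝ᵥ ((X * Y - Y * X) *ᵥ v) := rfl

end Cfsg.Agent.Lib.Helper81.Ah
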