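import Mathlib
import Cfsg.Agent.Lib.Helper81.Ah.Defs
import Cfsg.Agent.Lib.Helper13.MiTRANS

/-! # Ah hive (S2272): leaf AH-OUT. -/

set_option autoImplicit false

namespace Cfsg.Agent.Lib.Helper81.Ah

open Matrix Cfsg.Agent.Lib.Helper81.Mi

variable {F : Type*} [Field F] {n : ℕ}

/-- AH-OUT: for `n ≥ 3` two vectors do not span. -/
theorem exists_outside (hn : 3 ≤ n) (a v : Fin n → F) :
    ∃ z : Fin n → F, ∀ α β : F, z ≠ α • a + β • v := by
  obtain ⟨φ, hφ, hφa, hφv⟩ := exists_covector hn a v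
  obtain ⟨i, hi⟩ : ∃ i, φ i ≠ 0 := by
    by_contra hcon
    push Not at hcon
    exact hφ (funext hcon)
  refine ⟨Pi.single i 1, fun α β hz => hi ?_⟩
  have h1 : φ ⬝ᵥ (Pi.single i 1 : Fin n → F) = φ i := by
    rw [dotProduct_single, mul_one]
  rw [← h1, hz, dotProduct_add, dotProduct_smul, dotProduct_smul, hφa, hφv, smul_zero, smul_zero,
    add_zero]

end Cfsg.Agent.Lib.Helper81.Ah
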