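import Mathlib
import Cfsg.Agent.Lib.Helper81.Ah.Defs
import Cfsg.Agent.Lib.Helper13.MiTRANS
import Cfsg.Agent.Lib.Helper43.MiTV1
import Cfsg.Agent.Lib.Helper32.AhNE
import Cfsg.Agent.Lib.Helper81.Ah.BkOUT

/-! # Ah hive (S2272): leaf AH-MOVE (backup). -/

set_option autoImplicit false

namespace Cfsg.Agent.Lib.Helper81.Ah

open Matrix Cfsg.Agent.Lib.Helper81.Mi

variable {F : Type*} [Field F] {n : ℕ}

theorem ahbkmove_cancel (g : SLn n F) (w : Fin n → F) :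
    (g : Matrix (Fin n) (Fin n) F) *ᵥ (((g⁻¹ : SLn n F) : Matrix (Fin n) (Fin n) F) *ᵥ w) = w := by
  rw [Matrix.mulVec_mulVec, ← Matrix.SpecialLinearGroup.coe_mul, mul_inv_cancel,
    Matrix.SpecialLinearGroup.coe_one, Matrix.one_mulVec]

theorem ahbkmove_cancel' (g : SLn n F) (w : Fin n → F) :
    ((g⁻¹ : SLn n F) : Matrix (Fin n) (Fin n) F) *ᵥ ((g : Matrix (Fin n) (Fin n) F) *ᵥ w) = w := by
  rw [Matrix.mulVec_mulVec, ← Matrix.SpecialLinearGroup.coe_mul, inv_mul_cancel,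
    Matrix.SpecialLinearGroup.coe_one, Matrix.one_mulVec]

theorem ahbkmove_final (B g : SLn n F) (a v x : Fin n → F)
    (hgv : (g : Matrix (Fin n) (Fin n) F) *ᵥ v = x)
    (hy : ∀ α β : F, (B : Matrix (Fin n) (Fin n) F) *ᵥ x ≠
      α • ((g : Matrix (Fin n) (Fin n) F) *ᵥ a) + β • x) :
    ∀ α β : F,
      ((g⁻¹ * B * g⁻¹⁻¹ : SLn n F) : Matrix (Fin n) (Fin n) F) *ᵥ v ≠ α • a + β • v := by
  intro α β h
  apply hy α β
  rw [inv_inv, Matrix.SpecialLinearGroup.coe_mul, Matrix.SpecialLinearGroup.coe_mul,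
    ← Matrix.mulVec_mulVec, ← Matrix.mulVec_mulVec, hgv] at h
  have h2 := congrArg (fun w => (g : Matrix (Fin n) (Fin n) F) *ᵥ w) h
  rw [ahbkmove_cancel, Matrix.mulVec_add, Matrix.mulVec_smul, Matrix.mulVec_smul, hgv] at h2
  exact h2

/-- AH-MOVE: a conjugate of a non-scalar `B` moves `v` out of the plane `⟨a, v⟩`. -/
theorem exists_move (hn : 3 ≤ n) (B : SLn n F)
    (hB : ∀ c : F, (B : Matrix (Fin n) (Fin n) F) ≠ Matrix.scalar (Fin n) c)
    (a v : Fin n → F) (ha : a ≠ 0) (hv : ∀ c : F, v ≠ c • a) :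
    ∃ h : SLn n F, ∀ α β : F,
      ((h * B * h⁻¹ : SLn n F) : Matrix (Fin n) (Fin n) F) *ᵥ v ≠ α • a + β • v := by
  obtain ⟨x, hx⟩ := exists_non_eigen (B : Matrix (Fin n) (Fin n) F) hB
  have hx0 : x ≠ 0 := by
    rintro rfl
    exact hx 0 (by simp)
  have hv0 : v ≠ 0 := by
    intro h0
    exact hv 0 (by rw [h0, zero_smul])
  have hn2 : 2 ≤ n := by omega
  obtain ⟨γv, hγv⟩ := exists_smul_e0 hn2 v hv0
  obtain ⟨γx, hγx⟩ := exists_smul_e0 hn2 x hx0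
  obtain ⟨g0, hg0v⟩ : ∃ g0 : SLn n F, (g0 : Matrix (Fin n) (Fin n) F) *ᵥ v = x := by
    refine ⟨γx * γv⁻¹, ?_⟩
    rw [Matrix.SpecialLinearGroup.coe_mul, ← Matrix.mulVec_mulVec]
    conv_lhs => rw [← hγv]
    rw [ahbkmove_cancel', hγx]
  have ha0x : ∀ c : F, (g0 : Matrix (Fin n) (Fin n) F) *ᵥ a ≠ c • x := by
    intro c hc
    have h1 : a = c • v := by
      have := congrArg (fun w => ((g0⁻¹ : SLn n F) : Matrix (Fin n) (Fin n) F) *ᵥ w) hc
      rw [ahbkmove_cancel', Matrix.mulVec_smul, ← hg0v, ahbkmove_cancel'] at this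
      exact this
    by_cases hc0 : c = 0
    · exact ha (by rw [h1, hc0, zero_smul])
    · exact hv c⁻¹ (by rw [h1, smul_smul, inv_mul_cancel₀ hc0, one_smul])
  by_cases hcase : ∀ α β : F, (B : Matrix (Fin n) (Fin n) F) *ᵥ x ≠
      α • ((g0 : Matrix (Fin n) (Fin n) F) *ᵥ a) + β • x
  · exact ⟨g0⁻¹, ahbkmove_final B g0 a v x hg0v hcase⟩
  · push Not at hcase
    obtain ⟨α0, β0, hy0⟩ := hcase
    obtain ⟨φ, hφx, _, hφa0⟩ := exists_covector_sep x x ((g0 : Matrix (Fin n) (Fin n) F) *ᵥ a)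
      (fun α β => by rw [← add_smul]; exact ha0x (α + β))
    obtain ⟨z, hz⟩ := exists_outside hn x ((g0 : Matrix (Fin n) (Fin n) F) *ᵥ a)
    have hφz' : φ ⬝ᵥ (z - (φ ⬝ᵥ z) • ((g0 : Matrix (Fin n) (Fin n) F) *ᵥ a)) = 0 := by
      rw [dotProduct_sub, dotProduct_smul, hφa0, smul_eq_mul, mul_one, sub_self]
    have hz'out : ∀ α β : F, z - (φ ⬝ᵥ z) • ((g0 : Matrix (Fin n) (Fin n) F) *ᵥ a) ≠
        α • x + β • ((g0 : Matrix (Fin n) (Fin n) F) *ᵥ a) := by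
      intro α β h
      apply hz α (β + φ ⬝ᵥ z)
      rw [add_smul, ← add_assoc, ← h, sub_add_cancel]
    generalize z - (φ ⬝ᵥ z) • ((g0 : Matrix (Fin n) (Fin n) F) *ᵥ a) = z' at hφz' hz'out
    refine ⟨(tv z' φ * g0)⁻¹, ahbkmove_final B (tv z' φ * g0) a v x ?_ ?_⟩
    · rw [Matrix.SpecialLinearGroup.coe_mul, ← Matrix.mulVec_mulVec, hg0v, tv_mulVec z' φ x hφz', hφx,
        zero_smul, add_zero]
    · intro α β h
      rw [Matrix.SpecialLinearGroup.coe_mul, ← Matrix.mulVec_mulVec, tv_mulVec z' φ _ hφz', hφa0,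
        one_smul, hy0] at h
      by_cases hα : α = 0
      · subst hα
        rw [zero_smul, zero_add] at h
        exact hx β (by rw [hy0, h])
      · apply hz'out (α⁻¹ * (β0 - β)) (α⁻¹ * (α0 - α))
        have h3 : α • z' = (β0 - β) • x + (α0 - α) • ((g0 : Matrix (Fin n) (Fin n) F) *ᵥ a) := by
          have h4 : α • z' = (α0 • ((g0 : Matrix (Fin n) (Fin n) F) *ᵥ a) + β0 • x)
              - α • ((g0 : Matrix (Fin n) (Fin n) F) *ᵥ a) - β • x := by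
            rw [h, smul_add]; abel
          rw [h4, sub_smul, sub_smul]; abel
        rw [mul_smul, mul_smul, ← smul_add, ← h3, smul_smul, inv_mul_cancel₀ hα, one_smul]

end Cfsg.Agent.Lib.Helper81.Ah
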