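import Mathlib
import Cfsg.Agent.Lib.Helper81.Ah.Defs

/-! # Ah hive (S2272): leaf AH-TR. -/

set_option autoImplicit false

namespace Cfsg.Agent.Lib.Helper81.Ah

open Matrix Cfsg.Agent.Lib.Helper81.Mi

variable {F : Type*} [Field F] {n : ℕ}

theorem ahbktr_trace_vmv_mul (M : Matrix (Fin n) (Fin n) F) (v w : Fin n → F) :
    Matrix.trace (Matrix.vecMulVec v w * M) = w ⬝ᵥ (M *ᵥ v) := by
  rw [Matrix.trace_mul_comm, Matrix.mul_vecMulVec, Matrix.trace_vecMulVec, dotProduct_comm]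

theorem ahbktr_vmv_mul_vmv (X : Matrix (Fin n) (Fin n) F) (a b b' : Fin n → F) :
    Matrix.vecMulVec a b * X * Matrix.vecMulVec a b' =
      (b ⬝ᵥ (X *ᵥ a)) • Matrix.vecMulVec a b' := by
  rw [Matrix.mul_assoc, Matrix.mul_vecMulVec, Matrix.vecMulVec_mul_vecMulVec, Matrix.vecMulVec_smul]

/-- AH-TR: the trace along a transvection orbit is a polynomial of degree `≤ 2`. -/
theorem trace_conj_tmat (X Y : Matrix (Fin n) (Fin n) F) (v w : Fin n → F) (hwv : w ⬝ᵥ v = 0) (s : F) :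
    Matrix.trace (tmat v (s • w) * X * tmat v (-(s • w)) * Y) =
      Matrix.trace (X * Y) + s * c1 Y v w X - s ^ 2 * ((w ⬝ᵥ (X *ᵥ v)) * (w ⬝ᵥ (Y *ᵥ v))) := by
  have _ := hwv
  unfold tmat
  rw [Matrix.vecMulVec_neg]
  have expand : ∀ E : Matrix (Fin n) (Fin n) F,
      (1 + E) * X * (1 + -E) * Y = X * Y + E * (X * Y) - X * E * Y - E * X * E * Y := by
    intro E
    noncomm_ring
  rw [expand, Matrix.trace_sub, Matrix.trace_sub, Matrix.trace_add, ahbktr_trace_vmv_mul,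
    Matrix.trace_mul_cycle X, Matrix.trace_mul_comm (Y * X), ahbktr_trace_vmv_mul,
    ahbktr_vmv_mul_vmv, Matrix.smul_mul, Matrix.trace_smul, ahbktr_trace_vmv_mul, c1_apply,
    Matrix.sub_mulVec, dotProduct_sub]
  simp only [smul_dotProduct, smul_eq_mul]
  ring

end Cfsg.Agent.Lib.Helper81.Ah
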