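import Mathlib
import Cfsg.Agent.Lib.Helper81.Ah.Defs
import Cfsg.Agent.Lib.Helper13.MiTRANS
import Cfsg.Agent.Lib.Helper43.MiTV1
import Cfsg.Agent.Lib.Helper32.AhNE
import Cfsg.Agent.Lib.Helper32.AhD2
import Cfsg.Agent.Lib.Helper32.AhC1
import Cfsg.Agent.Lib.Helper74.AhPSL
import Cfsg.Agent.Lib.Helper74.AhNC
import Cfsg.Agent.Lib.Helper81.Ah.BkTR
import Cfsg.Agent.Lib.Helper81.Ah.BkOUT
import Cfsg.Agent.Lib.Helper81.Ah.BkMOVE

/-! # Ah hive (S2272): assembly.  Leaves: AH-NE, AH-D2, AH-C1 (helper32), AH-PSL, AH-NC (helper74),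
AH-TR, AH-OUT, AH-MOVE (helper81). -/

set_option autoImplicit false

namespace Cfsg.Agent.Lib.Helper81.Ah

open Matrix Cfsg.Agent.Lib.Helper81.Mi

variable {F : Type*} [Field F] {n : ℕ}

/-! ## ASSEMBLY -/

/-- coercion of a conjugate by a transvection. -/
theorem coe_conj_tv (X : SLn n F) (v φ : Fin n → F) (h : φ ⬝ᵥ v = 0) :
    ((tv v φ * X * (tv v φ)⁻¹ : SLn n F) : Matrix (Fin n) (Fin n) F) =
      tmat v φ * (X : Matrix (Fin n) (Fin n) F) * tmat v (-φ) := by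
  have h' : (-φ) ⬝ᵥ v = 0 := by rw [neg_dotProduct, h, neg_zero]
  rw [tv_inv, Matrix.SpecialLinearGroup.coe_mul, Matrix.SpecialLinearGroup.coe_mul, coe_tv v φ h,
    coe_tv v (-φ) h']

/-- the key configuration. -/
theorem key_config (hn : 3 ≤ n) (A B : SLn n F)
    (hA : ∀ c : F, (A : Matrix (Fin n) (Fin n) F) ≠ Matrix.scalar (Fin n) c)
    (hB : ∀ c : F, (B : Matrix (Fin n) (Fin n) F) ≠ Matrix.scalar (Fin n) c) :
    ∃ (g h : SLn n F) (v w : Fin n → F), w ⬝ᵥ v = 0 ∧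
      w ⬝ᵥ (((h * B * h⁻¹ : SLn n F) : Matrix (Fin n) (Fin n) F) *ᵥ v) = 0 ∧
      c1 ((h * B * h⁻¹ : SLn n F) : Matrix (Fin n) (Fin n) F) v w
        ((g * A * g⁻¹ : SLn n F) : Matrix (Fin n) (Fin n) F) ≠ 0 := by
  obtain ⟨a, ha⟩ := exists_non_eigen (A : Matrix (Fin n) (Fin n) F) hA
  have ha0 : a ≠ 0 := by
    rintro rfl
    exact ha 0 (by simp)
  set v : Fin n → F := (A : Matrix (Fin n) (Fin n) F) *ᵥ a with hvdef
  have hv : ∀ c : F, v ≠ c • a := ha
  obtain ⟨h, hh⟩ := exists_move hn B hB a v ha0 hv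
  set Y : Matrix (Fin n) (Fin n) F := ((h * B * h⁻¹ : SLn n F) : Matrix (Fin n) (Fin n) F) with hY
  set y : Fin n → F := Y *ᵥ v with hy
  -- a ∉ span (v, y)
  have hay : ∀ α β : F, a ≠ α • v + β • y := by
    intro α β hab
    by_cases hβ : β = 0
    · subst hβ
      rw [zero_smul, add_zero] at hab
      by_cases hα : α = 0
      · subst hα
        rw [zero_smul] at hab
        exact ha0 hab
      · apply hv α⁻¹
        rw [hab, smul_smul, inv_mul_cancel₀ hα, one_smul]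
    · apply hh (β⁻¹) (-(β⁻¹ * α))
      have : y = β⁻¹ • (a - α • v) := by
        rw [hab, add_sub_cancel_left, smul_smul, inv_mul_cancel₀ hβ, one_smul]
      rw [this, smul_sub, smul_smul, neg_smul, sub_eq_add_neg]
  obtain ⟨w, hwv, hwy, hwa⟩ := exists_covector_sep v y a hay
  obtain ⟨b', hb'a, hb'v, hb'y⟩ := exists_covector_sep a v y hh
  obtain ⟨b, hba, _, hbv⟩ := exists_covector_sep a a v (fun α β => by
    rw [← add_smul]; exact hv (α + β))
  -- the four conjugates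
  have hbb' : (b + b') ⬝ᵥ a = 0 := by rw [add_dotProduct, hba, hb'a, add_zero]
  have hD := second_difference (A : Matrix (Fin n) (Fin n) F) a b b' hba hb'a
  have hc := congrArg (c1 Y v w) hD
  rw [map_add, map_sub, map_sub, map_neg, map_add, map_smul, map_smul, c1_vecMulVec, c1_vecMulVec,
    ← hvdef, hbv, hb'v, hwa, ← hy, hb'y] at hc
  simp only [smul_eq_mul, one_mul, mul_one, mul_zero, zero_mul, sub_zero, add_zero] at hc
  -- hc : c1 X1 - c1 X2 - c1 X3 + c1 A = -1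
  by_contra hcon
  push Not at hcon
  have e1 := hcon (tv a (b + b')) h v w hwv hwy
  have e2 := hcon (tv a b) h v w hwv hwy
  have e3 := hcon (tv a b') h v w hwv hwy
  have e4 := hcon 1 h v w hwv hwy
  rw [coe_conj_tv A a (b + b') hbb'] at e1
  rw [coe_conj_tv A a b hba] at e2
  rw [coe_conj_tv A a b' hb'a] at e3
  rw [one_mul, inv_one, mul_one] at e4
  rw [← hY] at e1 e2 e3 e4
  rw [e1, e2, e3, e4] at hc
  norm_num at hc

/-- every element of `F` is the trace of a product of conjugates. -/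
theorem trace_values (hn : 3 ≤ n) (A B : SLn n F)
    (hA : ∀ c : F, (A : Matrix (Fin n) (Fin n) F) ≠ Matrix.scalar (Fin n) c)
    (hB : ∀ c : F, (B : Matrix (Fin n) (Fin n) F) ≠ Matrix.scalar (Fin n) c) (t : F) :
    ∃ g h : SLn n F,
      Matrix.trace (((g * A * g⁻¹ : SLn n F) : Matrix (Fin n) (Fin n) F) *
        ((h * B * h⁻¹ : SLn n F) : Matrix (Fin n) (Fin n) F)) = t := by
  obtain ⟨g, h, v, w, hwv, hwy, hc⟩ := key_config hn A B hA hB
  set X : Matrix (Fin n) (Fin n) F := ((g * A * g⁻¹ : SLn n F) : Matrix (Fin n) (Fin n) F) with hX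
  set Y : Matrix (Fin n) (Fin n) F := ((h * B * h⁻¹ : SLn n F) : Matrix (Fin n) (Fin n) F) with hY
  set s : F := (t - Matrix.trace (X * Y)) / c1 Y v w X with hs
  have hsw : (s • w) ⬝ᵥ v = 0 := by rw [smul_dotProduct, hwv, smul_zero]
  refine ⟨tv v (s • w) * g, h, ?_⟩
  have e : (tv v (s • w) * g) * A * (tv v (s • w) * g)⁻¹ =
      tv v (s • w) * (g * A * g⁻¹) * (tv v (s • w))⁻¹ := by
    rw [_root_.mul_inv_rev]; simp only [mul_assoc]
  rw [e, coe_conj_tv (g * A * g⁻¹) v (s • w) hsw, ← hX, ← hY,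
    trace_conj_tmat X Y v w hwv s, hwy, mul_zero, mul_zero, sub_zero, hs]
  field_simp
  ring

/-- the matrix form of the theorem. -/
theorem main_SL (hn : 3 ≤ n) (A B : SLn n F)
    (hA : ∀ c : F, (A : Matrix (Fin n) (Fin n) F) ≠ Matrix.scalar (Fin n) c)
    (hB : ∀ c : F, (B : Matrix (Fin n) (Fin n) F) ≠ Matrix.scalar (Fin n) c) :
    ¬ ∀ g h : SLn n F, ∃ ζ : F, ζ ≠ 0 ∧
      Matrix.trace (((g * A * g⁻¹ : SLn n F) : Matrix (Fin n) (Fin n) F) *
          ((h * B * h⁻¹ : SLn n F) : Matrix (Fin n) (Fin n) F)) =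
        ζ * Matrix.trace ((A : Matrix (Fin n) (Fin n) F) * (B : Matrix (Fin n) (Fin n) F)) := by
  intro hall
  obtain ⟨g0, h0, e0⟩ := trace_values hn A B hA hB 0
  obtain ⟨g1, h1, e1⟩ := trace_values hn A B hA hB 1
  obtain ⟨ζ0, hζ0, f0⟩ := hall g0 h0
  obtain ⟨ζ1, _, f1⟩ := hall g1 h1
  rw [e0] at f0
  rw [e1] at f1
  have ht : Matrix.trace ((A : Matrix (Fin n) (Fin n) F) * (B : Matrix (Fin n) (Fin n) F)) = 0 := by
    rcases mul_eq_zero.mp f0.symm with h | h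
    · exact absurd h hζ0
    · exact h
  rw [ht, mul_zero] at f1
  exact one_ne_zero f1

/-- S2272. -/
theorem s2272 {F : Type*} [Field F] [Fintype F] (d : ℕ) (hd : 3 ≤ d)
    (a b : Matrix.ProjectiveSpecialLinearGroup (Fin d) F) (ha : a ≠ 1) (hb : b ≠ 1) :
    ∃ g h : Matrix.ProjectiveSpecialLinearGroup (Fin d) F,
      ¬ IsConj (a * b) (g * a * g⁻¹ * (h * b * h⁻¹)) := by
  obtain ⟨A, rfl⟩ := QuotientGroup.mk_surjective a
  obtain ⟨B, rfl⟩ := QuotientGroup.mk_surjective b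
  have hA : A ∉ Subgroup.center (SLn d F) := fun h => ha ((QuotientGroup.eq_one_iff A).mpr h)
  have hB : B ∉ Subgroup.center (SLn d F) := fun h => hb ((QuotientGroup.eq_one_iff B).mpr h)
  by_contra hcon
  push Not at hcon
  apply main_SL hd A B (not_scalar_of_not_mem_center A hA) (not_scalar_of_not_mem_center B hB)
  intro g h
  exact trace_of_isConj A B g h (hcon g h)

end Cfsg.Agent.Lib.Helper81.Ah
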